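import Groth.Agent.DRingLib.Finite
import Groth.Agent.DRingLib.FFDescent
import Groth.Agent.DRingLib.CompleteNakayama
import Groth.Agent.DRingLib.Split
import Mathlib

/-! Complexes of projectives with bounded numbers of generators. -/

set_option autoImplicit false
set_option linter.style.haveILetI false
set_option backward.isDefEq.respectTransparency false

universe u

open CategoryTheory Limits Pretriangulated
attribute [local instance] HasDerivedCategory.standard

noncomputable section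

namespace Groth.Agent.AlgzSize

open Groth.Agent.DRingLib Groth.Agent.DCohLib

variable {A : Type u} [CommRing A]

/-- A projective module generated by `n` elements. -/
def PGen (n : ℕ) (M : ModuleCat.{u} A) : Prop :=
  Module.Projective A M ∧ ∃ g : (Fin n → A) →ₗ[A] M, Function.Surjective g

theorem PGen.of_iso {n : ℕ} {M N : ModuleCat.{u} A} (e : M ≅ N) (h : PGen n M) : PGen n N := by
  obtain ⟨hp, g, hg⟩ := h
  haveI := hp
  exact ⟨Module.Projective.of_equiv e.toLinearEquiv, e.toLinearEquiv.toLinearMap ∘ₗ g,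
    e.toLinearEquiv.surjective.comp hg⟩

theorem PGen.of_isZero {n : ℕ} {M : ModuleCat.{u} A} (h : IsZero M) : PGen n M := by
  haveI := ModuleCat.subsingleton_of_isZero h
  exact ⟨inferInstance, 0, fun y => ⟨0, Subsingleton.elim _ _⟩⟩

theorem PGen.mono {n m : ℕ} {M : ModuleCat.{u} A} (h : PGen n M) (hnm : n ≤ m) : PGen m M := by
  obtain ⟨hp, g, hg⟩ := h
  refine ⟨hp, g ∘ₗ LinearMap.funLeft A A (Fin.castLE hnm), hg.comp ?_⟩
  exact LinearMap.funLeft_surjective_of_injective A A _ (Fin.castLE_injective hnm)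

theorem PGen.biprod {n m : ℕ} {M N : ModuleCat.{u} A} (hM : PGen n M) (hN : PGen m N) :
    PGen (n + m) (M ⊞ N) := by
  obtain ⟨hp, g, hg⟩ := hM
  obtain ⟨hq, g', hg'⟩ := hN
  haveI := hp
  haveI := hq
  refine PGen.of_iso (ModuleCat.biprodIsoProd M N).symm ⟨inferInstanceAs (Module.Projective A (M × N)), ?_⟩
  refine ⟨(g ∘ₗ LinearMap.funLeft A A (Fin.castAdd m)).prod (g' ∘ₗ LinearMap.funLeft A A (Fin.natAdd n)), ?_⟩
  intro y
  obtain ⟨p, hp'⟩ := hg y.1
  obtain ⟨q, hq'⟩ := hg' y.2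
  refine ⟨Fin.append p q, Prod.ext ?_ ?_⟩
  · exact (congrArg g (funext fun i => Fin.append_left p q i)).trans hp'
  · exact (congrArg g' (funext fun i => Fin.append_right p q i)).trans hq'

theorem PGen.fProj {n : ℕ} {M : ModuleCat.{u} A} (h : PGen n M) : FProj M :=
  ⟨Module.Finite.of_surjective h.2.choose h.2.choose_spec, h.1⟩

theorem PGen.retract {n : ℕ} {M N : ModuleCat.{u} A} (r : Retract M N) (h : PGen n N) : PGen n M := by
  obtain ⟨hp, g, hg⟩ := h
  haveI : Module.Projective A N := hp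
  have e : r.r.hom ∘ₗ r.i.hom = LinearMap.id := by rw [← ModuleCat.hom_comp, r.retract]; rfl
  refine ⟨Module.Projective.of_split r.i.hom r.r.hom e, r.r.hom ∘ₗ g, fun x => ?_⟩
  obtain ⟨c, hc⟩ := hg (r.i.hom x)
  exact ⟨c, (congrArg r.r.hom hc).trans (LinearMap.congr_fun e x)⟩

/-- A complex in degrees `[lo, hi]` with terms generated by `n` elements. -/
def Small (lo hi : ℤ) (n : ℕ) (P : DRing.Cx A) : Prop :=
  DRing.VanishesOutside P lo hi ∧ ∀ i, PGen n (P.X i)

theorem Small.mono {lo hi lo' hi' : ℤ} {n n' : ℕ} {P : DRing.Cx A} (h : Small lo hi n P) (hl : lo' ≤ lo)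
    (hh : hi ≤ hi') (hn : n ≤ n') : Small lo' hi' n' P :=
  ⟨fun i hi' => h.1 i (by omega), fun i => (h.2 i).mono hn⟩

theorem Small.bdd {lo hi : ℤ} {n : ℕ} {P : DRing.Cx A} (h : Small lo hi n P) : Bdd FProj P :=
  ⟨⟨lo, hi, h.1⟩, fun i => (h.2 i).fProj⟩

theorem Small.isKProjective {lo hi : ℤ} {n : ℕ} {P : DRing.Cx A} (h : Small lo hi n P) : P.IsKProjective :=
  h.bdd.isKProjective projClass_fProj

/-- An object represented by a small complex. -/
def Sized (lo hi : ℤ) (n : ℕ) (K : Dual.D A) : Prop :=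
  ∃ P : DRing.Cx A, Small lo hi n P ∧ Nonempty (DRing.toD P ≅ K)

theorem Small.mappingCone {lo hi lo' hi' a b : ℤ} {n n' : ℕ} {E F : DRing.Cx A} (φ : E ⟶ F)
    (hE : Small lo hi n E) (hF : Small lo' hi' n' F) (ha : a + 1 ≤ lo) (ha' : a ≤ lo') (hb : hi ≤ b + 1) (hb' : hi' ≤ b) :
    Small a b (n + n') (CochainComplex.mappingCone φ) := by
  refine ⟨fun i hi => ?_, fun i =>
    (PGen.biprod (hE.2 (i + 1)) (hF.2 i)).of_iso (HomologicalComplex.homotopyCofiber.XIsoBiprod φ i (i + 1) rfl).symm⟩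
  exact IsZero.of_iso ((biprod_isZero_iff _ _).2 ⟨hE.1 (i + 1) (by omega), hF.1 i (by omega)⟩)
    (HomologicalComplex.homotopyCofiber.XIsoBiprod φ i (i + 1) rfl)

/-- Extensions of small objects are small. -/
theorem Sized.obj₂ {lo hi lo' hi' : ℤ} {n n' : ℕ} (T : Triangle (Dual.D A)) (hT : T ∈ distTriang _)
    (h₁ : Sized lo hi n T.obj₁) (h₃ : Sized lo' hi' n' T.obj₃) :
    Sized (min lo lo') (max hi hi') (n' + n) T.obj₂ := by
  obtain ⟨F, hF, ⟨b⟩⟩ := h₁
  obtain ⟨E₀, hE₀, ⟨a₀⟩⟩ := h₃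
  let E := E₀⟦(-1 : ℤ)⟧
  have hE : Small (lo' + 1) (hi' + 1) n' E :=
    ⟨fun i hi => hE₀.1 (i + -1) (by omega), fun i => hE₀.2 (i + -1)⟩
  let a : DRing.toD E ≅ T.invRotate.obj₁ :=
    (DerivedCategory.Q.commShiftIso (-1 : ℤ)).app E₀ ≪≫ (shiftFunctor (Dual.D A) (-1 : ℤ)).mapIso a₀
  haveI := hE.isKProjective
  obtain ⟨β, hβ⟩ := Q_map_surjective E F (a.hom ≫ T.invRotate.mor₁ ≫ b.inv)
  let i := isoTriangleOfIso₁₂ _ T.invRotate (DerivedCategory.mappingCone_triangle_distinguished β)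
    (inv_rot_of_distTriang T hT) a b
    (show DerivedCategory.Q.map β ≫ b.hom = a.hom ≫ T.invRotate.mor₁ by
      rw [hβ, Category.assoc, Category.assoc, Iso.inv_hom_id]
      exact congrArg (a.hom ≫ ·) (Category.comp_id _))
  exact ⟨_, Small.mappingCone β hE hF (by omega) (by omega) (by omega) (by omega), ⟨Triangle.π₃.mapIso i⟩⟩

theorem exactAt_of_toD_iso {P Q : DRing.Cx A} (e : DRing.toD P ≅ DRing.toD Q) (i : ℤ) (h : P.ExactAt i) :
    Q.ExactAt i := by
  rw [exactAt_iff_isZero_homologyFunctor] at h ⊢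
  exact h.of_iso ((DerivedCategory.homologyFunctor (ModuleCat.{u} A) i).mapIso e.symm)

/-- Removing an exact top degree. -/
theorem Small.trim {lo t : ℤ} {n : ℕ} {Q : DRing.Cx A} (hQ : Small lo (t + 1) n Q) (hlo : lo ≤ t)
    (hex : Q.ExactAt (t + 1)) : Sized lo t n (DRing.toD Q) := by
  have hex' : ∀ i, t < i → Q.ExactAt i := by
    intro i hi
    rcases eq_or_lt_of_le (show t + 1 ≤ i by omega) with rfl | h
    · exact hex
    · rw [HomologicalComplex.exactAt_iff]
      exact ShortComplex.exact_of_isZero_X₂ _ (hQ.1 i (Or.inr h))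
  haveI : Q.IsLE t := (CochainComplex.isLE_iff _ _).2 fun i hi => hex' i hi
  haveI : QuasiIso (Q.ιTruncLE t) := (CochainComplex.quasiIso_ιTruncLE_iff _ _).2 inferInstance
  obtain ⟨hfin, hproj⟩ := finite_Zc hQ.bdd (2 : ℕ) t (t + 1) (fun i hi => hQ.1 i (Or.inr hi)) (by push_cast; omega) hex'
  haveI := hproj
  let e : Q.cycles t ≅ ModuleCat.of A (Zc Q t) :=
    (Q.cyclesIsoSc' (t - 1) t (t + 1) (by simp) (by simp)) ≪≫ (Q.sc' (t - 1) t (t + 1)).moduleCatCyclesIso
  have hcyc : PGen n (Q.cycles t) := by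
    refine PGen.of_iso e.symm ?_
    obtain ⟨hp, g, hg⟩ := hQ.2 t
    haveI := hp
    haveI := (hQ.2 (t + 1)).1
    let d := (Q.d t (t + 1)).hom
    have hd : Function.Surjective d := fun x => exists_of_exactAt hex x (by
      show (Q.d (t + 1) (t + 1 + 1)).hom x = 0
      haveI := ModuleCat.subsingleton_of_isZero (hQ.1 (t + 1 + 1) (Or.inr (by omega)))
      exact Subsingleton.elim _ _)
    obtain ⟨s, hs⟩ := Module.projective_lifting_property d LinearMap.id hd
    refine ⟨hproj, LinearMap.codRestrict _ ((LinearMap.id - s ∘ₗ d) ∘ₗ g) (fun c => LinearMap.mem_ker.2 ?_), fun z => ?_⟩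
    · have h1 := LinearMap.congr_fun hs (d (g c))
      simp only [LinearMap.comp_apply, LinearMap.id_apply] at h1
      simp [d, map_sub] at h1 ⊢
      rw [h1, sub_self]
    · obtain ⟨c, hc⟩ := hg (z : Q.X t)
      refine ⟨c, Subtype.ext ?_⟩
      have hz : d (z : Q.X t) = 0 := LinearMap.mem_ker.1 z.2
      simp [hc, hz]
  refine ⟨Q.truncLE t, ⟨fun i hi => ?_, fun i => ?_⟩,
    ⟨@asIso _ _ _ _ _ (isIso_Q_map (Q.ιTruncLE t) inferInstance)⟩⟩
  · rcases hi with hi | hi
    · rcases lt_or_eq_of_le (show i ≤ t by omega) with h | h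
      · exact (hQ.1 i (Or.inl hi)).of_iso (Q.truncLEXIso t i h)
      · omega
    · exact CochainComplex.isZero_of_isStrictlyLE _ t i hi
  · rcases lt_trichotomy i t with h | rfl | h
    · exact (hQ.2 i).of_iso (Q.truncLEXIso t i h).symm
    · exact hcyc.of_iso (Q.truncLEXIsoCycles i).symm
    · exact PGen.of_isZero (CochainComplex.isZero_of_isStrictlyLE _ t i h)

end Groth.Agent.AlgzSize
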