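import Groth.Agent.AlgzSize.Basic
import Groth.Agent.S17867
import Groth.Prelude.Def_W4c5algebraiztannakaNis
import Groth.Prelude.Def_DTen4

/-! Bounding the size of a perfect complex from a Nisnevich cover. -/

set_option autoImplicit false
set_option linter.style.haveILetI false
set_option backward.isDefEq.respectTransparency false

universe u

open CategoryTheory Limits Pretriangulated AlgebraicGeometry
attribute [local instance] HasDerivedCategory.standard

noncomputable section

namespace Groth.Agent.AlgzSize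

open Groth.Agent.DRingLib Groth.Agent.DCohLib Groth.Agent.DComplLib W4c5algebraiztannaka

variable {A B : Type u} [CommRing A] [CommRing B] (φ : A →+* B)

/-- A Nisnevich cover by an affine scheme is flat and surjective. -/
theorem faithfullyFlat_of_isNisCoverLen {m : ℕ} (hφ : IsNisCoverLen (Spec.map (CommRingCat.ofHom φ)) m) :
    φ.FaithfullyFlat := by
  haveI := hφ.etale
  have hflat : φ.Flat := (HasRingHomProperty.Spec_iff (P := @Flat)).1
    (inferInstance : Flat (Spec.map (CommRingCat.ofHom φ)))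
  letI := φ.toAlgebra
  haveI : Module.Flat A B := hflat
  refine RingHom.faithfullyFlat_algebraMap_iff.2 (Module.FaithfullyFlat.of_comap_surjective fun x => ?_)
  obtain ⟨Z, h0, h1, -, -, hsec⟩ := hφ.flag
  by_contra hx
  have : ∀ k, x ∉ Z k := by
    intro k
    induction k using Fin.induction with
    | zero => rw [h0]; exact Set.notMem_empty x
    | succ k ih =>
      intro h
      obtain ⟨T, g, s, -, hr, hs⟩ := hsec k
      obtain ⟨t, ht⟩ : x ∈ Set.range (fun t : T => g t) := hr.symm ▸ ⟨h, ih⟩
      refine hx ⟨s t, ?_⟩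
      rw [← ht, ← hs]
      rfl
  exact this (Fin.last m) (h1 ▸ Set.mem_univ x)

/-- Generators of a module from generators on a Nisnevich cover. -/
theorem exists_generators {m n : ℕ} (hφ : IsNisCoverLen (Spec.map (CommRingCat.ofHom φ)) m)
    (M : ModuleCat.{u} A) [Module.Finite A M]
    (hM : ∃ g : (Fin n → B) →ₗ[B] (ModuleCat.extendScalars.{u, u, u} φ).obj M, Function.Surjective g) :
    ∃ s : Fin (n * m) → M, Submodule.span A (Set.range s) = ⊤ := by
  obtain ⟨g, hg⟩ := hM
  haveI : CompactSpace (Spec (CommRingCat.of B)) := inferInstance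
  refine S17867.result (CommRingCat.of A) M (Spec.map (CommRingCat.ofHom φ)) m n hφ ?_
  let I := ULift.{u} (Fin n)
  let b : (ModuleCat.of B (I →₀ B)) ⟶ (ModuleCat.extendScalars.{u, u, u} φ).obj M :=
    ModuleCat.ofHom (g ∘ₗ ((Finsupp.linearEquivFunOnFinite B B I).trans
      (LinearEquiv.funCongrLeft B B Equiv.ulift.symm)).toLinearMap)
  haveI : Epi b := (ModuleCat.epi_iff_surjective b).2
    (hg.comp ((Finsupp.linearEquivFunOnFinite B B I).trans (LinearEquiv.funCongrLeft B B Equiv.ulift.symm)).surjective)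
  haveI : (tilde.functor (CommRingCat.of B)).IsLeftAdjoint := (tilde.adjunction).isLeftAdjoint
  haveI : HasCoproductsOfShape (Fin n) (Spec (CommRingCat.of B)).Modules := inferInstance
  let e : FlatMod.freeMod (Spec (CommRingCat.of B)) n ≅ (tilde.functor (CommRingCat.of B)).obj (ModuleCat.of B (I →₀ B)) :=
    (show SheafOfModules.free (R := (Spec (CommRingCat.of B)).ringCatSheaf) I ≅
        FlatMod.freeMod (Spec (CommRingCat.of B)) n from
      Sigma.whiskerEquiv (C := (Spec (CommRingCat.of B)).Modules)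
        (f := fun _ : I => Coh.structureModule (Spec (CommRingCat.of B)))
        (g := fun _ : Fin n => Coh.structureModule (Spec (CommRingCat.of B))) Equiv.ulift (fun _ => Iso.refl _)).symm ≪≫
      (tildeFinsupp I).symm
  exact ⟨e.hom ≫ (tilde.functor (CommRingCat.of B)).map b ≫
    (TildePullback.tildePullbackIso (CommRingCat.ofHom φ)).inv.app M, inferInstance⟩

/-- A local presentation of size `n` in degrees `[lo, hi]`. -/
def Loc (m : ℕ) (E : DRing.Cx A) (lo hi : ℤ) (n : ℕ) : Prop :=
  ∃ (B : Type u) (_ : CommRing B) (φ : A →+* B),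
    IsNisCoverLen (Spec.map (CommRingCat.ofHom φ)) m ∧
      ∃ P : DRing.Cx B, Small lo hi n P ∧ Nonempty (DRing.toD P ≅ DRing.toD ((bcCx φ).obj E))

variable {m : ℕ} {n : ℕ}

theorem exactAt_bcCx {φ : A →+* B} (hφ : φ.FaithfullyFlat) (E : DRing.Cx A) (i : ℤ) :
    ((bcCx φ).obj E).ExactAt i ↔ E.ExactAt i := by
  letI := φ.toAlgebra
  haveI : Module.FaithfullyFlat A B := hφ
  refine ⟨fun h => (ffFamily_single (A := A) (B := B)).exactAt_of_extCx E i fun _ => h, fun h => ?_⟩
  haveI := ModuleCat.preservesFiniteLimits_extendScalars_of_flat (f := φ) hφ.flat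
  rw [HomologicalComplex.exactAt_iff] at h ⊢
  exact h.map (ModuleCat.extendScalars.{u, u, u} φ)

/-- The top cohomology of a local presentation bounds generators of the top cohomology. -/
theorem exists_generators_homology {φ : A →+* B} (hφ : IsNisCoverLen (Spec.map (CommRingCat.ofHom φ)) m)
    {E : DRing.Cx A} {lo t : ℤ} {P : DRing.Cx B} (hP : Small lo t n P)
    (e : DRing.toD P ≅ DRing.toD ((bcCx φ).obj E)) :
    ∃ s : Fin (n * m) → E.homology t, Submodule.span A (Set.range s) = ⊤ := by
  have hff := faithfullyFlat_of_isNisCoverLen φ hφ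
  obtain ⟨hp, g, hg⟩ := hP.2 t
  haveI := ModuleCat.preservesFiniteLimits_extendScalars_of_flat (f := φ) hff.flat
  have hd : P.d t (t + 1) = 0 := (hP.1 (t + 1) (Or.inr (by omega))).eq_of_tgt _ _
  haveI : IsIso (P.iCycles t) := P.isIso_iCycles t (t + 1) (by simp) hd
  let π : P.X t ⟶ P.homology t := inv (P.iCycles t) ≫ P.homologyπ t
  let ι : P.homology t ≅ (ModuleCat.extendScalars.{u, u, u} φ).obj (E.homology t) :=
    (hQIso P t).symm ≪≫ (DerivedCategory.homologyFunctor (ModuleCat.{u} B) t).mapIso e ≪≫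
      hQIso ((bcCx φ).obj E) t ≪≫ ((E.sc t).mapHomologyIso (ModuleCat.extendScalars.{u, u, u} φ))
  have hπ : Function.Surjective (π ≫ ι.hom).hom := (ModuleCat.epi_iff_surjective _).1 inferInstance
  haveI : Module.Finite B ((ModuleCat.extendScalars.{u, u, u} φ).obj (E.homology t)) :=
    Module.Finite.of_surjective ((π ≫ ι.hom).hom ∘ₗ g) (hπ.comp hg)
  haveI : Module.Finite A (E.homology t) := by
    letI := φ.toAlgebra
    haveI : Module.FaithfullyFlat A B := hff
    exact (ffFamily_single (A := A) (B := B)).finite _ fun _ => ‹_›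
  exact exists_generators φ hφ (E.homology t) ⟨(π ≫ ι.hom).hom ∘ₗ g, hπ.comp hg⟩

/-- A free module in one degree mapping onto a given top cohomology. -/
theorem exists_attach {G : ℕ} (E : DRing.Cx A) (t : ℤ) (s : Fin G → E.homology t)
    (hs : Submodule.span A (Set.range s) = ⊤) :
    ∃ f : (HomologicalComplex.single (ModuleCat.{u} A) (ComplexShape.up ℤ) t).obj (ModuleCat.of A (Fin G → A)) ⟶ E,
      Epi (HomologicalComplex.homologyMap f t) := by
  let σ : ModuleCat.of A (Fin G → A) ⟶ E.homology t := ModuleCat.ofHom (Fintype.linearCombination A s)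
  haveI : Epi σ := (ModuleCat.epi_iff_surjective σ).2 (LinearMap.range_eq_top.1 (by
    show LinearMap.range (Fintype.linearCombination A s) = ⊤
    rw [Fintype.range_linearCombination, hs]))
  haveI : Projective (ModuleCat.of A (Fin G → A)) := ModuleCat.projective_of_categoryTheory_projective _
  let l := Projective.factorThru σ (E.homologyπ t)
  have hl : l ≫ E.homologyπ t = σ := Projective.factorThru_comp _ _
  let f := HomologicalComplex.mkHomFromSingle (K := E) (j := t) (l ≫ E.iCycles t)
    (fun k _ => by rw [Category.assoc, HomologicalComplex.iCycles_d, comp_zero])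
  refine ⟨f, ?_⟩
  have hc : (HomologicalComplex.singleObjCyclesSelfIso (ComplexShape.up ℤ) t _).inv ≫
      HomologicalComplex.cyclesMap f t = l := by
    rw [← cancel_mono (E.iCycles t), Category.assoc, HomologicalComplex.cyclesMap_i,
      HomologicalComplex.singleObjCyclesSelfIso_inv_iCycles_assoc]
    simp [f]
  haveI : Epi (HomologicalComplex.cyclesMap f t ≫ E.homologyπ t) := by
    have : Epi ((HomologicalComplex.singleObjCyclesSelfIso (ComplexShape.up ℤ) t _).inv ≫
        HomologicalComplex.cyclesMap f t ≫ E.homologyπ t) := by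
      rw [← Category.assoc, hc, hl]; infer_instance
    exact epi_of_epi (HomologicalComplex.singleObjCyclesSelfIso (ComplexShape.up ℤ) t _).inv _
  rw [← HomologicalComplex.homologyπ_naturality] at *
  exact epi_of_epi (HomologicalComplex.homologyπ _ t) _

theorem small_single (G : ℕ) (t : ℤ) (M : ModuleCat.{u} A) (hM : PGen G M) :
    Small t t G ((HomologicalComplex.single (ModuleCat.{u} A) (ComplexShape.up ℤ) t).obj M) :=
  ⟨fun i hi => HomologicalComplex.isZero_single_obj_X _ t M i (by omega), fun i => by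
    rcases eq_or_ne i t with rfl | h
    · exact hM.of_iso (HomologicalComplex.singleObjXSelf (ComplexShape.up ℤ) i M).symm
    · exact PGen.of_isZero (HomologicalComplex.isZero_single_obj_X _ t M i h)⟩

theorem pGen_fin (G : ℕ) : PGen G (ModuleCat.of A (Fin G → A)) :=
  ⟨inferInstanceAs (Module.Projective A (Fin G → A)), LinearMap.id, Function.surjective_id⟩

theorem pGen_extendScalars (G : ℕ) (φ : A →+* B) :
    PGen G ((ModuleCat.extendScalars.{u, u, u} φ).obj (ModuleCat.of A (Fin G → A))) := by
  letI := φ.toAlgebra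
  let e : TensorProduct A B (Fin G → A) ≃ₗ[B] (Fin G → B) := TensorProduct.piScalarRight A B B (Fin G)
  exact (pGen_fin (A := B) G).of_iso (LinearEquiv.toModuleIso e.symm)

/-- One step down. -/
theorem sized_step
    (E : DRing.Cx A) (hE : Bdd FProj E) {lo t : ℤ} (hlo : lo ≤ t) (h : Loc m E lo (t + 1) n) :
    ∃ (C : DRing.Cx A) (T : Triangle (Dual.D A)), T ∈ distTriang _ ∧ Bdd FProj C ∧
      Sized (t + 1) (t + 1) (n * m) T.obj₁ ∧ Nonempty (T.obj₂ ≅ DRing.toD E) ∧
      Nonempty (T.obj₃ ≅ DRing.toD C) ∧ Loc m C lo t (n * m + n) := by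
  obtain ⟨B, _, φ, hφ, P, hP, ⟨e⟩⟩ := h
  have hff := faithfullyFlat_of_isNisCoverLen φ hφ
  obtain ⟨s, hs⟩ := exists_generators_homology hφ hP e
  obtain ⟨f, hf⟩ := exists_attach E (t + 1) s hs
  have hS := small_single (A := A) (n * m) (t + 1) _ (pGen_fin (n * m))
  let C := CochainComplex.mappingCone f
  have hCt : C.ExactAt (t + 1) := by
    refine exactAt_cone_of f (t + 1) hf ⟨fun a b _ => ?_⟩
    refine IsZero.eq_of_tgt ?_ a b
    exact HomologicalComplex.ExactAt.isZero_homology ((HomologicalComplex.exactAt_iff _ (t + 1 + 1)).2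
      (ShortComplex.exact_of_isZero_X₂ _ (hS.1 (t + 1 + 1) (Or.inr (by omega)))))
  refine ⟨C, _, DerivedCategory.mappingCone_triangle_distinguished f, hS.bdd.mappingCone projClass_fProj f hE,
    ⟨_, hS, ⟨Iso.refl _⟩⟩, ⟨Iso.refl _⟩, ⟨Iso.refl _⟩, B, inferInstance, φ, hφ, ?_⟩
  let S' := (bcCx φ).obj ((HomologicalComplex.single (ModuleCat.{u} A) (ComplexShape.up ℤ) (t + 1)).obj
    (ModuleCat.of A (Fin (n * m) → A)))
  have hS' : Small (t + 1) (t + 1) (n * m) S' :=
    ⟨fun i hi => (ModuleCat.extendScalars.{u, u, u} φ).map_isZero (hS.1 i hi), fun i => by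
      rcases eq_or_ne i (t + 1) with rfl | hne
      · exact (pGen_extendScalars (n * m) φ).of_iso ((ModuleCat.extendScalars.{u, u, u} φ).mapIso
          (HomologicalComplex.singleObjXSelf (ComplexShape.up ℤ) (t + 1) _).symm)
      · exact PGen.of_isZero ((ModuleCat.extendScalars.{u, u, u} φ).map_isZero
          (HomologicalComplex.isZero_single_obj_X _ _ _ i hne))⟩
  haveI := hS'.isKProjective
  obtain ⟨g, hg⟩ := Q_map_surjective S' P (DerivedCategory.Q.map ((bcCx φ).map f) ≫ e.inv)
  let Q := CochainComplex.mappingCone g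
  let i := isoTriangleOfIso₁₂ _ _ (DerivedCategory.mappingCone_triangle_distinguished g)
    (DerivedCategory.mappingCone_triangle_distinguished ((bcCx φ).map f)) (Iso.refl _) e
    (show DerivedCategory.Q.map g ≫ e.hom = 𝟙 _ ≫ DerivedCategory.Q.map ((bcCx φ).map f) by
      rw [hg, Category.assoc, Iso.inv_hom_id, Category.comp_id]
      exact (Category.id_comp _).symm)
  let eC : DRing.toD Q ≅ DRing.toD ((bcCx φ).obj C) := Triangle.π₃.mapIso i ≪≫
    DerivedCategory.Q.mapIso (CochainComplex.mappingCone.mapHomologicalComplexIso f (ModuleCat.extendScalars.{u, u, u} φ)).symm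
  have hQ : Small lo (t + 1) (n * m + n) Q :=
    Small.mappingCone g hS' hP (by omega) le_rfl (by omega) le_rfl
  have hQt : Q.ExactAt (t + 1) := exactAt_of_toD_iso eC.symm (t + 1) ((exactAt_bcCx hff C (t + 1)).2 hCt)
  obtain ⟨P', hP', ⟨e'⟩⟩ := hQ.trim hlo hQt
  exact ⟨P', hP', ⟨e' ≪≫ eC⟩⟩

/-- A single degree. -/
theorem sized_base (E : DRing.Cx A) (hE : Bdd FProj E) {t : ℤ} (h : Loc m E t t n) :
    Sized t t (n * m) (DRing.toD E) := by
  obtain ⟨B, _, φ, hφ, P, hP, ⟨e⟩⟩ := h
  have hff := faithfullyFlat_of_isNisCoverLen φ hφ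
  have hex : ∀ i, i ≠ t → E.ExactAt i := fun i hi => (exactAt_bcCx hff E i).1
    (exactAt_of_toD_iso e i (by
      rw [HomologicalComplex.exactAt_iff]
      exact ShortComplex.exact_of_isZero_X₂ _ (hP.1 i (by omega))))
  obtain ⟨s, hs⟩ := exists_generators_homology hφ hP e
  haveI := ModuleCat.preservesFiniteLimits_extendScalars_of_flat (f := φ) hff.flat
  let H := E.homology t
  -- finitely presented
  obtain ⟨a, b, hab⟩ := hE.1
  obtain ⟨hZf, hZp⟩ := finite_Zc hE ((b + 1 - t).toNat) t b (fun i hi => hab i (Or.inr hi)) (by omega)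
    fun i hi => hex i (by omega)
  haveI := hZf
  haveI := hZp
  let c : ModuleCat.of A (Zc E t) ≅ E.cycles t :=
    ((E.cyclesIsoSc' (t - 1) t (t + 1) (by simp) (by simp)) ≪≫ (E.sc' (t - 1) t (t + 1)).moduleCatCyclesIso).symm
  let q : Zc E t →ₗ[A] H := (c.hom ≫ E.homologyπ t).hom
  have hq : Function.Surjective q := (ModuleCat.epi_iff_surjective _).1 inferInstance
  have hker : (LinearMap.ker q).FG := by
    haveI := (hE.2 (t - 1)).1
    have hr : LinearMap.ker q = (LinearMap.range (E.toCycles (t - 1) t).hom).map (c.inv).hom := by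
      have hexact := (ShortComplex.moduleCat_exact_iff_range_eq_ker _).1
        (ShortComplex.exact_of_g_is_cokernel (ShortComplex.mk (E.toCycles (t - 1) t) (E.homologyπ t) (by simp))
          (E.homologyIsCokernel (t - 1) t (by simp)))
      ext z
      constructor
      · intro hz
        refine ⟨c.hom.hom z, hexact.ge hz, ?_⟩
        exact c.toLinearEquiv.symm_apply_apply z
      · rintro ⟨w, hw, rfl⟩
        show (E.homologyπ t).hom (c.hom.hom (c.inv.hom w)) = 0
        rw [show c.hom.hom (c.inv.hom w) = w from c.toLinearEquiv.apply_symm_apply w]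
        exact hexact.le hw
    rw [hr]
    refine Submodule.FG.map _ ?_
    rw [LinearMap.range_eq_map]
    exact Module.Finite.fg_top.map _
  haveI := Module.finitePresentation_of_projective A (Zc E t)
  haveI : Module.FinitePresentation A H := Module.finitePresentation_of_surjective q hq hker
  -- projective
  haveI hHB : Module.Projective B ((ModuleCat.extendScalars.{u, u, u} φ).obj H) := by
    haveI := (hP.2 t).1
    have h1 : P.d t (t + 1) = 0 := (hP.1 (t + 1) (Or.inr (by omega))).eq_of_tgt _ _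
    have h2 : P.d (t - 1) t = 0 := (hP.1 (t - 1) (Or.inl (by omega))).eq_of_src _ _
    haveI : IsIso (P.iCycles t) := P.isIso_iCycles t (t + 1) (by simp) h1
    haveI : IsIso (P.homologyπ t) := P.isIso_homologyπ (t - 1) t (by simp) h2
    exact Module.Projective.of_equiv ((asIso (P.iCycles t)).symm ≪≫ asIso (P.homologyπ t) ≪≫ (hQIso P t).symm ≪≫
      (DerivedCategory.homologyFunctor (ModuleCat.{u} B) t).mapIso e ≪≫ hQIso ((bcCx φ).obj E) t ≪≫
      (E.sc t).mapHomologyIso (ModuleCat.extendScalars.{u, u, u} φ)).toLinearEquiv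
  haveI : Module.Flat A H := by
    letI := φ.toAlgebra
    haveI : Module.FaithfullyFlat A B := hff
    haveI : Module.Flat B (TensorProduct A B H) := (inferInstance : Module.Flat B ((ModuleCat.extendScalars.{u, u, u} φ).obj H))
    exact Module.Flat.of_flat_tensorProduct A H B
  have hH : PGen (n * m) H := by
    refine ⟨Module.Flat.projective_of_finitePresentation, Fintype.linearCombination A s, ?_⟩
    rw [← LinearMap.range_eq_top, Fintype.range_linearCombination, hs]
  -- concentrated in one degree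
  haveI : DerivedCategory.IsGE (DRing.toD E) t := (DerivedCategory.isGE_Q_obj_iff E t).2
    ((CochainComplex.isGE_iff _ _).2 fun i hi => hex i (by omega))
  haveI : DerivedCategory.IsLE (DRing.toD E) t := (DerivedCategory.isLE_Q_obj_iff E t).2
    ((CochainComplex.isLE_iff _ _).2 fun i hi => hex i (by omega))
  obtain ⟨X, ⟨eX⟩⟩ := DerivedCategory.exists_iso_singleFunctor_obj_of_isGE_of_isLE (DRing.toD E) t
  refine ⟨_, small_single (n * m) t X (hH.of_iso ?_),
    ⟨((DerivedCategory.singleFunctorIsoCompQ (ModuleCat.{u} A) t).app X).symm ≪≫ eX.symm⟩⟩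
  exact (hQIso E t).symm ≪≫ (DerivedCategory.homologyFunctor (ModuleCat.{u} A) t).mapIso eX ≪≫
    (DerivedCategory.homologyFunctor (ModuleCat.{u} A) t).mapIso ((DerivedCategory.singleFunctorIsoCompQ (ModuleCat.{u} A) t).app X) ≪≫
    hQIso _ t ≪≫ HomologicalComplex.singleObjHomologySelfIso (ComplexShape.up ℤ) t X

/-- The bound as a function of the number of degrees. -/
def bound (m : ℕ) : ℕ → ℕ → ℕ
  | 0, n => n * m
  | l + 1, n => bound m l (n * m + n) + n * m

theorem sized_of_loc (m : ℕ) : ∀ (l n : ℕ) (lo : ℤ) (E : DRing.Cx A), Bdd FProj E → Loc m E lo (lo + l) n →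
    Sized lo (lo + l) (bound m l n) (DRing.toD E) := by
  intro l
  induction l with
  | zero =>
    intro n lo E hE h
    simp only [Nat.cast_zero, add_zero] at h ⊢
    exact sized_base E hE h
  | succ l ih =>
    intro n lo E hE h
    rw [show lo + ((l + 1 : ℕ) : ℤ) = lo + l + 1 by push_cast; ring] at h ⊢
    obtain ⟨C, T, hT, hC, h1, ⟨e2⟩, ⟨e3⟩, hloc⟩ := sized_step E hE (by omega) h
    obtain ⟨P, hP, ⟨eP⟩⟩ := ih (n * m + n) lo C hC hloc
    obtain ⟨P₂, hP₂, ⟨eP₂⟩⟩ := Sized.obj₂ T hT h1 ⟨P, hP, ⟨eP ≪≫ e3.symm⟩⟩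
    exact ⟨P₂, hP₂.mono (by omega) (by omega) le_rfl, ⟨eP₂ ≪≫ e2⟩⟩

end Groth.Agent.AlgzSize
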